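import Groth.Agent.GUCons8.LocalHomInj
import Groth.Agent.EGA43.Unibranch.Criterion
import Groth.Agent.Unibr10.Product
import Mathlib.RingTheory.Spectrum.Prime.Chevalley
import Mathlib.RingTheory.Kaehler.Basic
import Mathlib.RingTheory.FiniteStability

/-!
# The geometrically unibranch locus of a Noetherian ring is constructible
-/

set_option autoImplicit false
set_option linter.style.haveILetI false
set_option backward.isDefEq.respectTransparency false

universe u

open IsLocalRing TensorProduct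

namespace Groth.Agent.GUCons8

/-- Being geometrically unibranch only depends on the reduction. -/
theorem isGeomUnibranch_iff_of_surjective {R S : Type u} [CommRing R] [IsLocalRing R] [CommRing S]
    [IsLocalRing S] (π : R →+* S) (hπ : Function.Surjective π) (hker : RingHom.ker π ≤ nilradical R) :
    CAlg2.IsGeomUnibranch R ↔ CAlg2.IsGeomUnibranch S := by
  have hnil : ∀ r : R, π r ∈ nilradical S ↔ r ∈ nilradical R := fun r => by
    constructor
    · intro h
      obtain ⟨n, hn⟩ := h
      have : r ^ n ∈ nilradical R := hker (RingHom.mem_ker.2 (by rw [map_pow]; exact hn))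
      obtain ⟨m, hm⟩ := this
      exact ⟨n * m, by rw [pow_mul]; exact hm⟩
    · exact fun h => IsNilpotent.map h π
  constructor <;> intro h
  · obtain ⟨C, _, _, _, _, _, _, hk, hbir, hins⟩ := EGA43.Unibranch.exists_normalization h
    let g : S →+* C := RingHom.liftOfRightInverse π (Function.surjInv hπ)
      (Function.rightInverse_surjInv hπ) ⟨algebraMap R C, fun r hr => hk ▸ hker hr⟩
    have hg : ∀ r, g (π r) = algebraMap R C r := fun r =>
      RingHom.liftOfRightInverse_comp_apply π _ _ ⟨algebraMap R C, fun r hr => hk ▸ hker hr⟩ r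
    letI := g.toAlgebra
    haveI : Algebra.IsIntegral S C := ⟨fun c => by
      obtain ⟨P, hP, hPc⟩ := (Algebra.IsIntegral.isIntegral (R := R) c)
      refine ⟨P.map π, hP.map π, ?_⟩
      rw [Polynomial.eval₂_map, RingHom.algebraMap_toAlgebra, show g.comp π = algebraMap R C from RingHom.ext hg]
      exact hPc⟩
    refine EGA43.Unibranch.isGeomUnibranch_of_normalization (C := C) ?_ (fun c => ?_) fun x => ?_
    · ext s
      obtain ⟨r, rfl⟩ := hπ s
      rw [RingHom.mem_ker, RingHom.algebraMap_toAlgebra, hg, hnil, ← hk, RingHom.mem_ker]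
    · obtain ⟨s, hs, a, ha⟩ := hbir c
      refine ⟨π s, fun h' => hs ((hnil s).1 h'), π a, ?_⟩
      rw [RingHom.algebraMap_toAlgebra, hg, hg]
      exact ha
    · obtain ⟨n, a, ha⟩ := hins x
      exact ⟨n, π a, by rw [RingHom.comp_apply, RingHom.algebraMap_toAlgebra, hg]; exact ha⟩
  · obtain ⟨C, _, _, _, _, _, _, hk, hbir, hins⟩ := EGA43.Unibranch.exists_normalization h
    letI : Algebra R C := ((algebraMap S C).comp π).toAlgebra
    haveI : Algebra.IsIntegral R C :=
      ⟨RingHom.IsIntegral.trans π _ (RingHom.isIntegral_of_surjective _ hπ)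
        (Algebra.IsIntegral.isIntegral (R := S) (A := C))⟩
    refine EGA43.Unibranch.isGeomUnibranch_of_normalization (C := C) ?_ (fun c => ?_) fun x => ?_
    · ext r
      rw [RingHom.mem_ker, ← hnil, ← hk, RingHom.mem_ker]
      rfl
    · obtain ⟨s, hs, a, ha⟩ := hbir c
      obtain ⟨s, rfl⟩ := hπ s
      obtain ⟨a, rfl⟩ := hπ a
      exact ⟨s, fun h' => hs ((hnil s).2 h'), a, ha⟩
    · obtain ⟨n, a, ha⟩ := hins x
      obtain ⟨a, rfl⟩ := hπ a
      exact ⟨n, a, ha⟩

variable (A : Type u) [CommRing A]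

/-- The normalisation of `A / P`. -/
abbrev NormAt (P : minimalPrimes A) : Type u :=
  haveI : P.1.IsPrime := P.2.1.1
  integralClosure (A ⧸ P.1) (FractionRing (A ⧸ P.1))

theorem finite_normAt [IsNoetherianRing A] (hfin : Module.Finite (CAlg2.red A) (CAlg2.normRed A))
    (P : minimalPrimes A) : Module.Finite A (NormAt A P) := by
  haveI : P.1.IsPrime := P.2.1.1
  obtain ⟨e, he⟩ := Unibr10.exists_normRed_equiv A (minimalPrimes.finite_of_isNoetherianRing A)
  let q : CAlg2.normRed A →+* NormAt A P :=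
    (VarietyLib.normRedEquiv (A ⧸ P.1) (FractionRing (A ⧸ P.1))).toRingHom.comp
      ((Pi.evalRingHom _ P).comp e.toRingHom)
  have hq : Function.Surjective q :=
    (VarietyLib.normRedEquiv (A ⧸ P.1) (FractionRing (A ⧸ P.1))).surjective.comp
      ((Function.surjective_eval P).comp e.surjective)
  have h1 : (Unibr10.toNormRed A).Finite :=
    RingHom.Finite.comp (RingHom.finite_algebraMap.mpr hfin)
      (RingHom.Finite.of_surjective _ Ideal.Quotient.mk_surjective)
  have h2 : (q.comp (Unibr10.toNormRed A)).Finite := RingHom.Finite.comp (RingHom.Finite.of_surjective q hq) h1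
  refine RingHom.finite_algebraMap.mp ?_
  convert h2 using 1
  refine RingHom.ext fun a => ?_
  show algebraMap A (NormAt A P) a = VarietyLib.normRedEquiv _ _ (e (Unibr10.toNormRed A a) P)
  rw [he, IsScalarTower.algebraMap_apply A (A ⧸ P.1) (NormAt A P)]
  exact (VarietyLib.normRedEquiv_mk (A ⧸ P.1) (FractionRing (A ⧸ P.1)) _).symm

/-- The comparison of `A_p` with the local ring of `A / P`. -/
theorem isGeomUnibranch_iff_quotient (P p : Ideal A) [P.IsPrime] [p.IsPrime] (hP : P ∈ minimalPrimes A)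
    (hPp : P ≤ p) (huniq : ∀ Q ∈ minimalPrimes A, Q ≤ p → Q = P)
    [(p.map (Ideal.Quotient.mk P)).IsPrime] :
    CAlg2.IsGeomUnibranch (Localization.AtPrime p) ↔
      CAlg2.IsGeomUnibranch (Localization.AtPrime (p.map (Ideal.Quotient.mk P))) := by
  have hcomap : p = (p.map (Ideal.Quotient.mk P)).comap (Ideal.Quotient.mk P) := by
    rw [Ideal.comap_map_of_surjective _ Ideal.Quotient.mk_surjective, ← RingHom.ker_eq_comap_bot, Ideal.mk_ker,
      sup_eq_left.2 hPp]
  let π := Localization.localRingHom p (p.map (Ideal.Quotient.mk P)) (Ideal.Quotient.mk P) hcomap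
  refine isGeomUnibranch_iff_of_surjective π ?_ ?_
  · intro y
    obtain ⟨⟨a, s, hs⟩, rfl⟩ := IsLocalization.mk'_surjective (p.map (Ideal.Quotient.mk P)).primeCompl y
    obtain ⟨a, rfl⟩ := Ideal.Quotient.mk_surjective a
    obtain ⟨s, rfl⟩ := Ideal.Quotient.mk_surjective s
    refine ⟨IsLocalization.mk' _ a (⟨s, fun h => hs (Ideal.mem_map_of_mem _ h)⟩ : p.primeCompl), ?_⟩
    exact Localization.localRingHom_mk' _ _ _ _ a _
  · intro y hy
    obtain ⟨⟨a, s⟩, rfl⟩ := IsLocalization.mk'_surjective p.primeCompl y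
    dsimp only at hy ⊢
    rw [RingHom.mem_ker, show π _ = _ from Localization.localRingHom_mk' _ _ _ _ a s,
      IsLocalization.mk'_eq_zero_iff] at hy
    obtain ⟨⟨t, ht⟩, hta⟩ := hy
    obtain ⟨t, rfl⟩ := Ideal.Quotient.mk_surjective t
    have haP : a ∈ P := by
      have : t * a ∈ P := Ideal.Quotient.eq_zero_iff_mem.1 (by rw [map_mul]; exact hta)
      exact (Ideal.IsPrime.mem_or_mem ‹_› this).resolve_left fun h =>
        ht (Ideal.mem_map_of_mem _ (hPp h))
    rw [nilradical, Ideal.radical_eq_sInf, Submodule.mem_sInf]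
    rintro Q ⟨-, hQ⟩
    haveI := hQ
    have hQp : Ideal.comap (algebraMap A (Localization.AtPrime p)) Q ≤ p := fun z hz => by
      by_contra hzp
      exact Set.disjoint_left.1 ((IsLocalization.isPrime_iff_isPrime_disjoint p.primeCompl _ Q).1 hQ).2 hzp hz
    obtain ⟨Q₀, hQ₀, hle⟩ := Ideal.exists_minimalPrimes_le
      (bot_le : (⊥ : Ideal A) ≤ Ideal.comap (algebraMap A (Localization.AtPrime p)) Q)
    have := huniq Q₀ hQ₀ (hle.trans hQp)
    rw [IsLocalization.mk'_mem_iff]
    exact hle (this ▸ haP)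

/-- Field-valued points of a finite product factor through one factor. -/
theorem exists_factor {ι : Type u} [Fintype ι] {N : ι → Type u} [∀ i, CommRing (N i)] {L : Type u} [Field L]
    (φ : (Π i, N i) →+* L) : ∃ (i : ι) (φ' : N i →+* L), ∀ x, φ x = φ' (x i) := by
  classical
  obtain ⟨⟨i, q⟩, hq⟩ := (PrimeSpectrum.sigmaToPi_bijective N).2 ⟨RingHom.ker φ, RingHom.ker_isPrime φ⟩
  have hk : q.asIdeal.comap (Pi.evalRingHom N i) = RingHom.ker φ := congrArg PrimeSpectrum.asIdeal hq
  let φ' : N i →+* L := RingHom.liftOfRightInverse (Pi.evalRingHom N i) (Function.surjInv (Function.surjective_eval i))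
    (Function.rightInverse_surjInv _) ⟨φ, fun x hx => hk.le (by
      rw [Ideal.mem_comap, RingHom.mem_ker.1 hx]; exact zero_mem _)⟩
  exact ⟨i, φ', fun x => (RingHom.liftOfRightInverse_comp_apply _ _ _ ⟨φ, _⟩ x).symm⟩

/-- A field-valued point of an integral extension over a given prime. -/
theorem exists_hom_over {R S : Type u} [CommRing R] [CommRing S] [Algebra R S] [Algebra.IsIntegral R S]
    {Ω : Type u} [Field Ω] [IsAlgClosed Ω] (θ : R →+* Ω)
    (hker : RingHom.ker (algebraMap R S) ≤ RingHom.ker θ) :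
    ∃ φ : S →+* Ω, φ.comp (algebraMap R S) = θ := by
  haveI := RingHom.ker_isPrime θ
  obtain ⟨Q, -, hQ, hQc⟩ := Ideal.exists_ideal_over_prime_of_isIntegral (S := S) (RingHom.ker θ) ⊥ hker
  haveI := hQ
  let k := R ⧸ RingHom.ker θ
  let θ' : k →+* Ω := RingHom.kerLift θ
  let K := FractionRing k
  let θK : K →+* Ω := IsFractionRing.lift (RingHom.kerLift_injective θ)
  letI : Algebra k (S ⧸ Q) :=
    (Ideal.quotientMap Q (algebraMap R S) hQc.ge).toAlgebra
  haveI : FaithfulSMul k (S ⧸ Q) := (faithfulSMul_iff_algebraMap_injective _ _).2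
    (Ideal.quotientMap_injective' hQc.le)
  haveI : Algebra.IsIntegral k (S ⧸ Q) := ⟨fun z => by
    obtain ⟨c, rfl⟩ := Ideal.Quotient.mk_surjective z
    obtain ⟨P, hP, hPc⟩ := Algebra.IsIntegral.isIntegral (R := R) c
    refine ⟨P.map (Ideal.Quotient.mk _), hP.map _, ?_⟩
    have h0 := congrArg (Ideal.Quotient.mk Q) hPc
    rw [Polynomial.hom_eval₂, map_zero] at h0
    rw [Polynomial.eval₂_map]
    exact h0⟩
  letI : Algebra k Ω := θ'.toAlgebra
  haveI : FaithfulSMul k Ω := (faithfulSMul_iff_algebraMap_injective _ _).2 (RingHom.kerLift_injective θ)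
  haveI : IsDomain (S ⧸ Q) := Ideal.Quotient.isDomain Q
  let L : (S ⧸ Q) →ₐ[k] Ω := IsAlgClosed.lift (M := Ω) (R := k) (S := S ⧸ Q)
  refine ⟨L.toRingHom.comp (Ideal.Quotient.mk Q), RingHom.ext fun r => ?_⟩
  exact L.commutes (Ideal.Quotient.mk _ r)

/-- Field-valued points of `C` over `p` coincide. -/
def InjOver (C : Type u) [CommRing C] [Algebra A C] (p : PrimeSpectrum A) : Prop :=
  ∀ (L : Type u) [Field L] (φ ψ : C →+* L), φ.comp (algebraMap A C) = ψ.comp (algebraMap A C) →
    RingHom.ker (φ.comp (algebraMap A C)) = p.asIdeal → φ = ψ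

theorem notMem_image_iff (C : Type u) [CommRing C] [Algebra A C] (p : PrimeSpectrum A) :
    p ∉ PrimeSpectrum.comap (algebraMap A (C ⊗[A] C)) ''
        (PrimeSpectrum.zeroLocus (KaehlerDifferential.ideal A C : Set (C ⊗[A] C)))ᶜ ↔ InjOver A C p := by
  constructor
  · intro hN L _ φ ψ hφψ hk
    letI : Algebra A L := (φ.comp (algebraMap A C)).toAlgebra
    let φa : C →ₐ[A] L := { φ with commutes' := fun a => rfl }
    let ψa : C →ₐ[A] L := { ψ with commutes' := fun a => (RingHom.congr_fun hφψ a).symm }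
    let μ : C ⊗[A] C →ₐ[A] L := Algebra.TensorProduct.lift φa ψa fun _ _ => Commute.all _ _
    refine RingHom.ext fun c => ?_
    by_contra hne
    refine hN ⟨⟨RingHom.ker μ.toRingHom, RingHom.ker_isPrime _⟩, fun hJ => hne ?_, PrimeSpectrum.ext ?_⟩
    · have hc : (1 : C) ⊗ₜ[A] c - c ⊗ₜ 1 ∈ KaehlerDifferential.ideal A C := by
        rw [← KaehlerDifferential.span_range_eq_ideal]
        exact Ideal.subset_span ⟨c, rfl⟩
      have : μ ((1 : C) ⊗ₜ[A] c - c ⊗ₜ 1) = 0 := hJ hc
      rw [map_sub, sub_eq_zero, Algebra.TensorProduct.lift_tmul, Algebra.TensorProduct.lift_tmul] at this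
      simpa [φa, ψa] using this.symm
    · rw [PrimeSpectrum.comap_asIdeal]
      show Ideal.comap (algebraMap A (C ⊗[A] C)) (RingHom.ker μ.toRingHom) = p.asIdeal
      rw [← hk, RingHom.comap_ker]
      exact congrArg RingHom.ker μ.comp_algebraMap
  · rintro h ⟨Q, hQJ, hQp⟩
    refine hQJ ?_
    let L := FractionRing ((C ⊗[A] C) ⧸ Q.asIdeal)
    let σ : C ⊗[A] C →+* L := algebraMap (C ⊗[A] C) L
    have hσ : ∀ t, σ t = 0 ↔ t ∈ Q.asIdeal := fun t => by
      show algebraMap (C ⊗[A] C) L t = 0 ↔ _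
      rw [IsScalarTower.algebraMap_apply (C ⊗[A] C) ((C ⊗[A] C) ⧸ Q.asIdeal) L,
        map_eq_zero_iff _ (IsFractionRing.injective _ _), Ideal.Quotient.algebraMap_eq,
        Ideal.Quotient.eq_zero_iff_mem]
    let φ : C →+* L := σ.comp (Algebra.TensorProduct.includeLeftRingHom)
    let ψ : C →+* L := σ.comp (Algebra.TensorProduct.includeRight (R := A) (A := C) (B := C)).toRingHom
    have hφψ : φ.comp (algebraMap A C) = ψ.comp (algebraMap A C) := by
      refine RingHom.ext fun a => congrArg σ ?_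
      exact ((Algebra.TensorProduct.includeRight (R := A) (A := C) (B := C)).commutes a).symm
    have hk : RingHom.ker (φ.comp (algebraMap A C)) = p.asIdeal := by
      rw [← hQp]
      ext a
      rw [RingHom.mem_ker, PrimeSpectrum.comap_asIdeal, Ideal.mem_comap, ← hσ]
      rfl
    have heq := h L φ ψ hφψ hk
    rw [PrimeSpectrum.mem_zeroLocus, SetLike.coe_subset_coe, ← KaehlerDifferential.span_range_eq_ideal,
      Ideal.span_le]
    rintro _ ⟨c, rfl⟩
    rw [SetLike.mem_coe, ← hσ, map_sub, sub_eq_zero]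
    exact (RingHom.congr_fun heq c).symm

theorem key (P : minimalPrimes A) (p : PrimeSpectrum A) (hPp : P.1 ≤ p.asIdeal)
    (huniq : ∀ Q ∈ minimalPrimes A, Q ≤ p.asIdeal → Q = P.1) :
    CAlg2.IsGeomUnibranch (Localization.AtPrime p.asIdeal) ↔ InjOver A (NormAt A P) p := by
  haveI := P.2.1.1
  haveI : (p.asIdeal.map (Ideal.Quotient.mk P.1)).IsPrime :=
    Ideal.map_isPrime_of_surjective Ideal.Quotient.mk_surjective (by rwa [Ideal.mk_ker])
  rw [isGeomUnibranch_iff_quotient A P.1 p.asIdeal P.2 hPp huniq]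
  let pb := p.asIdeal.map (Ideal.Quotient.mk P.1)
  have hc : pb.comap (Ideal.Quotient.mk P.1) = p.asIdeal := by
    rw [Ideal.comap_map_of_surjective _ Ideal.Quotient.mk_surjective, ← RingHom.ker_eq_comap_bot, Ideal.mk_ker,
      sup_eq_left.2 hPp]
  haveI : IsDomain (A ⧸ P.1) := Ideal.Quotient.isDomain P.1
  let i : Localization.AtPrime pb →+* FractionRing (A ⧸ P.1) :=
    IsLocalization.lift (M := pb.primeCompl) (g := algebraMap (A ⧸ P.1) (FractionRing (A ⧸ P.1)))
      fun s => isUnit_iff_ne_zero.2 ((map_ne_zero_iff _ (IsFractionRing.injective _ _)).2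
        fun h => s.2 (h ▸ zero_mem pb))
  letI := i.toAlgebra
  haveI : IsScalarTower (A ⧸ P.1) (Localization.AtPrime pb) (FractionRing (A ⧸ P.1)) :=
    IsScalarTower.of_algebraMap_eq fun x => (IsLocalization.lift_eq _ x).symm
  haveI : IsFractionRing (Localization.AtPrime pb) (FractionRing (A ⧸ P.1)) :=
    IsFractionRing.isFractionRing_of_isDomain_of_isLocalization pb.primeCompl _ _
  have halg : ∀ (L : Type u) [Field L] (φ : NormAt A P →+* L),
      φ.comp (algebraMap A _) = (φ.comp (algebraMap (A ⧸ P.1) _)).comp (Ideal.Quotient.mk P.1) :=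
    fun L _ φ => RingHom.ext fun a => congrArg φ (IsScalarTower.algebraMap_apply A (A ⧸ P.1) (NormAt A P) a)
  constructor
  · intro h L _ φ ψ hφψ hker
    have e : φ.comp (algebraMap (A ⧸ P.1) _) = ψ.comp (algebraMap (A ⧸ P.1) _) :=
      (RingHom.cancel_right Ideal.Quotient.mk_surjective).1 (by rw [← halg, ← halg, hφψ])
    refine Unibranch5.eq_of_isGeomUnibranch pb h L φ ψ e ?_
    refine Ideal.comap_injective_of_surjective _ (Ideal.Quotient.mk_surjective (I := P.1)) ?_
    rw [hc, RingHom.comap_ker, ← halg, hker]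
  · intro h
    refine isGeomUnibranch_of_homInjAt pb fun L _ φ ψ hφψ hker => h L φ ψ ?_ ?_
    · rw [halg, halg, hφψ]
    · rw [halg, ← RingHom.comap_ker, hker, hc]

theorem eq_nilradical_comap (p : PrimeSpectrum A) (h : IsDomain (CAlg2.red (Localization.AtPrime p.asIdeal)))
    (R : minimalPrimes A) (hR : R.1 ≤ p.asIdeal) :
    R.1 = (nilradical (Localization.AtPrime p.asIdeal)).comap (algebraMap A _) := by
  haveI := R.2.1.1
  have hpn : (nilradical (Localization.AtPrime p.asIdeal)).IsPrime := (Ideal.Quotient.isDomain_iff_prime _).1 h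
  have hle : (nilradical (Localization.AtPrime p.asIdeal)).comap (algebraMap A _) ≤ R.1 := fun a ha => by
    have hd : Disjoint (p.asIdeal.primeCompl : Set A) R.1 := Set.disjoint_left.2 fun x hx hx' => hx (hR hx')
    have hRm : (R.1.map (algebraMap A (Localization.AtPrime p.asIdeal))).IsPrime :=
      IsLocalization.isPrime_of_isPrime_disjoint p.asIdeal.primeCompl _ _ R.2.1.1 hd
    have := nilradical_le_prime (R.1.map (algebraMap A (Localization.AtPrime p.asIdeal))) (H := hRm) ha
    rw [← Ideal.mem_comap] at this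
    have e := IsLocalization.under_map_of_isPrime_disjoint p.asIdeal.primeCompl (Localization.AtPrime p.asIdeal) R.2.1.1 hd
    rw [Ideal.under] at e
    rw [e] at this
    exact this
  exact le_antisymm (R.2.2 ⟨Ideal.comap_isPrime _ _, bot_le⟩ hle) hle

theorem isGeomUnibranch_iff_injOver [Fintype (minimalPrimes A)] (p : PrimeSpectrum A) :
    CAlg2.IsGeomUnibranch (Localization.AtPrime p.asIdeal) ↔
      InjOver A (Π P : minimalPrimes A, NormAt A P) p := by
  classical
  haveI hpr : ∀ P : minimalPrimes A, P.1.IsPrime := fun P => P.2.1.1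
  have hP : ∀ (P : minimalPrimes A) (a : A), a ∈ P.1 → algebraMap A (NormAt A P) a = 0 := fun P a ha => by
    rw [IsScalarTower.algebraMap_apply A (A ⧸ P.1) (NormAt A P), Ideal.Quotient.algebraMap_eq,
      Ideal.Quotient.eq_zero_iff_mem.2 ha, map_zero]
  constructor
  · intro hgu L _ φ ψ hφψ hk
    obtain ⟨P, φ', hφ'⟩ := exists_factor φ
    obtain ⟨P', ψ', hψ'⟩ := exists_factor ψ
    have eφ : φ.comp (algebraMap A _) = φ'.comp (algebraMap A (NormAt A P)) := RingHom.ext fun a => hφ' _
    have eψ : ψ.comp (algebraMap A _) = ψ'.comp (algebraMap A (NormAt A P')) := RingHom.ext fun a => hψ' _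
    have hPφ : P.1 ≤ p.asIdeal := fun a ha => by
      rw [← hk, eφ, RingHom.mem_ker, RingHom.comp_apply, hP P a ha, map_zero]
    have hPψ : P'.1 ≤ p.asIdeal := fun a ha => by
      rw [← hk, hφψ, eψ, RingHom.mem_ker, RingHom.comp_apply, hP P' a ha, map_zero]
    obtain rfl : P = P' := Subtype.ext
      ((eq_nilradical_comap A p hgu.1.1 P hPφ).trans (eq_nilradical_comap A p hgu.1.1 P' hPψ).symm)
    have heq : φ' = ψ' := (key A P p hPφ fun Q hQ hQp =>
      (eq_nilradical_comap A p hgu.1.1 ⟨Q, hQ⟩ hQp).trans (eq_nilradical_comap A p hgu.1.1 P hPφ).symm).1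
        hgu L φ' ψ' (by rw [← eφ, ← eψ, hφψ]) (by rw [← eφ, hk])
    exact RingHom.ext fun x => (hφ' x).trans ((RingHom.congr_fun heq _).trans (hψ' x).symm)
  · intro hinj
    let Ω := AlgebraicClosure p.asIdeal.ResidueField
    let θ : A →+* Ω := (algebraMap p.asIdeal.ResidueField Ω).comp (algebraMap A p.asIdeal.ResidueField)
    have hθ : RingHom.ker θ = p.asIdeal := by
      rw [RingHom.ker_comp_of_injective _ (algebraMap p.asIdeal.ResidueField Ω).injective]
      exact Ideal.ker_algebraMap_residueField _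
    haveI hint : ∀ P : minimalPrimes A, Algebra.IsIntegral A (NormAt A P) := fun P =>
      Algebra.IsIntegral.trans (A ⧸ P.1)
    have hlift : ∀ P : minimalPrimes A, P.1 ≤ p.asIdeal →
        ∃ φ : NormAt A P →+* Ω, φ.comp (algebraMap A _) = θ := fun P hP' => by
      refine exists_hom_over θ (le_trans ?_ (hP'.trans hθ.ge))
      intro a ha
      rw [RingHom.mem_ker, IsScalarTower.algebraMap_apply A (A ⧸ P.1) (NormAt A P),
        map_eq_zero_iff _ (FaithfulSMul.algebraMap_injective (A ⧸ P.1) (NormAt A P))] at ha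
      exact Ideal.Quotient.eq_zero_iff_mem.1 ha
    obtain ⟨P₀, hP₀, hP₀p⟩ := Ideal.exists_minimalPrimes_le (bot_le : (⊥ : Ideal A) ≤ p.asIdeal)
    let P : minimalPrimes A := ⟨P₀, hP₀⟩
    have huniq : ∀ Q : minimalPrimes A, Q.1 ≤ p.asIdeal → Q = P := by
      intro Q hQp
      by_contra hne
      obtain ⟨φ, hφ⟩ := hlift Q hQp
      obtain ⟨ψ, hψ⟩ := hlift P hP₀p
      have h1 := hinj Ω (φ.comp (Pi.evalRingHom _ Q)) (ψ.comp (Pi.evalRingHom _ P))
        (RingHom.ext fun a => (RingHom.congr_fun hφ a).trans (RingHom.congr_fun hψ a).symm)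
        ((congrArg RingHom.ker hφ).trans hθ)
      have h2 := RingHom.congr_fun h1 (Pi.single Q 1)
      simp [Pi.single_eq_of_ne (Ne.symm hne)] at h2
    refine (key A P p hP₀p fun Q hQ hQp => congrArg Subtype.val (huniq ⟨Q, hQ⟩ hQp)).2
      fun L _ φ ψ hφψ hk => ?_
    have h1 := hinj L (φ.comp (Pi.evalRingHom _ P)) (ψ.comp (Pi.evalRingHom _ P))
      (RingHom.ext fun a => RingHom.congr_fun hφψ a) hk
    exact (RingHom.cancel_right (Function.surjective_eval _)).1 h1

theorem isConstructible_geomUnibranch [IsNoetherianRing A]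
    (hfin : Module.Finite (CAlg2.red A) (CAlg2.normRed A)) :
    Topology.IsConstructible {p : PrimeSpectrum A | CAlg2.IsGeomUnibranch (Localization.AtPrime p.asIdeal)} := by
  classical
  haveI := (minimalPrimes.finite_of_isNoetherianRing A).to_subtype
  letI := Fintype.ofFinite (minimalPrimes A)
  haveI := finite_normAt A hfin
  let C := Π P : minimalPrimes A, NormAt A P
  haveI : IsNoetherianRing (C ⊗[A] C) := IsNoetherianRing.of_finite A (C ⊗[A] C)
  have hU : Topology.IsConstructible ((PrimeSpectrum.zeroLocus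
      (KaehlerDifferential.ideal A C : Set (C ⊗[A] C)))ᶜ : Set (PrimeSpectrum (C ⊗[A] C))) :=
    IsRetrocompact.isConstructible (PrimeSpectrum.isClosed_zeroLocus _).isOpen_compl
      (fun V hV hV' => TopologicalSpace.NoetherianSpace.isCompact _)
  have hfp : (algebraMap A (C ⊗[A] C)).FinitePresentation :=
    RingHom.finitePresentation_algebraMap.mpr (Algebra.FinitePresentation.of_finiteType.1 inferInstance)
  have himg := (PrimeSpectrum.isConstructible_comap_image hfp hU).compl
  convert himg using 1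
  ext p
  exact (isGeomUnibranch_iff_injOver A p).trans (notMem_image_iff A C p).symm

end Groth.Agent.GUCons8
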