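import Groth.Agent.Unibranch5.Local
import Mathlib.FieldTheory.PurelyInseparable.Basic
import Mathlib.RingTheory.Localization.Integral
import Mathlib.RingTheory.Localization.FractionRing
import Mathlib.RingTheory.Ideal.GoingUp
import Mathlib.FieldTheory.IsAlgClosed.AlgebraicClosure
import Mathlib.RingTheory.LocalRing.RingHom.Basic
import Mathlib.RingTheory.LocalRing.ResidueField.Basic

/-!
# Geometrically unibranch points of a domain, pointwise criterion
-/

set_option autoImplicit false
set_option linter.style.haveILetI false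

universe u

namespace Groth.Agent.GUCons8

open Groth.Agent.Unibranch5

open IsLocalRing

variable {A : Type u} [CommRing A] [IsDomain A]

variable (p : Ideal A) [p.IsPrime] [Algebra (Localization.AtPrime p) (FractionRing A)]
  [IsScalarTower A (Localization.AtPrime p) (FractionRing A)]
  [IsFractionRing (Localization.AtPrime p) (FractionRing A)]

local notation "O" => Localization.AtPrime p
local notation "C" => integralClosure (Localization.AtPrime p) (FractionRing A)
local notation "A'" => integralClosure A (FractionRing A)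

/-- The converse in the local ring. -/
theorem isGeomUnibranch_of_homInjAt
    (h : ∀ (L : Type u) [Field L] (φ ψ : A' →+* L), φ.comp (algebraMap A _) = ψ.comp (algebraMap A _) →
      RingHom.ker (φ.comp (algebraMap A _)) = p → φ = ψ) :
    CAlg2.IsGeomUnibranch O := by
  let k := ResidueField O
  have hres : ∀ (J : Ideal C) [J.IsMaximal], ∀ o ∈ maximalIdeal O, algebraMap O C o ∈ J := fun J _ o ho => by
    have : (J.comap (algebraMap O C)).IsMaximal := Ideal.isMaximal_comap_of_isIntegral_of_isMaximal J
    rw [← Ideal.mem_comap, IsLocalRing.eq_maximalIdeal this]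
    exact ho
  let ρ (J : Ideal C) [J.IsMaximal] : k →+* C ⧸ J :=
    Ideal.Quotient.lift _ ((Ideal.Quotient.mk J).comp (algebraMap O C))
      fun o ho => Ideal.Quotient.eq_zero_iff_mem.2 (hres J o ho)
  have hext : ∀ (L : Type u) [Field L] (J J' : Ideal C) [J.IsMaximal] [J'.IsMaximal] (σ : C ⧸ J →+* L)
      (τ : C ⧸ J' →+* L), σ.comp (ρ J) = τ.comp (ρ J') →
        σ.comp (Ideal.Quotient.mk J) = τ.comp (Ideal.Quotient.mk J') := by
    intro L _ J J' _ _ σ τ hστ
    have hO : ∀ o : O, σ (Ideal.Quotient.mk J (algebraMap O C o)) = τ (Ideal.Quotient.mk J' (algebraMap O C o)) :=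
      fun o => RingHom.congr_fun hστ (residue O o)
    have heq := h L ((σ.comp (Ideal.Quotient.mk J)).comp (incl p)) ((τ.comp (Ideal.Quotient.mk J')).comp (incl p))
      (RingHom.ext fun a => by
        simp only [RingHom.comp_apply, incl_algebraMap]
        exact hO _)
      (Ideal.ext fun a => by
        rw [RingHom.mem_ker]
        simp only [RingHom.comp_apply, incl_algebraMap]
        have e1 : σ (Ideal.Quotient.mk J (algebraMap O C (algebraMap A O a))) =
            (σ.comp (ρ J)) (residue O (algebraMap A O a)) := rfl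
        rw [e1, map_eq_zero_iff _ (σ.comp (ρ J)).injective, residue_eq_zero_iff]
        exact IsLocalization.AtPrime.to_map_mem_maximal_iff O p a)
    refine RingHom.ext fun c => ?_
    obtain ⟨s, hs, a, hsa⟩ := exists_mul_mem p c
    have h1 := RingHom.congr_fun heq a
    simp only [RingHom.comp_apply, ← hsa, map_mul, ← hO] at h1
    refine mul_left_cancel₀ ?_ h1
    exact ((IsUnit.map (algebraMap O C) (IsLocalization.map_units O (⟨s, hs⟩ : p.primeCompl))).map
      (σ.comp (Ideal.Quotient.mk J))).ne_zero
  let e := VarietyLib.normRedEquiv O (FractionRing A)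
  let Ω := AlgebraicClosure k
  have hlift : ∀ (J : Ideal C) [J.IsMaximal], ∃ σ : C ⧸ J →+* Ω, σ.comp (ρ J) = algebraMap k Ω := by
    intro J _
    letI := Ideal.Quotient.field J
    letI := (ρ J).toAlgebra
    haveI : Algebra.IsAlgebraic k (C ⧸ J) := by
      refine ⟨fun z => ?_⟩
      obtain ⟨c, rfl⟩ := Ideal.Quotient.mk_surjective z
      obtain ⟨P, hP, hPc⟩ := (show IsIntegral O c from Algebra.IsIntegral.isIntegral c)
      refine IsIntegral.isAlgebraic ⟨P.map (residue O), hP.map _, ?_⟩
      rw [Polynomial.eval₂_map]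
      have h0 := congrArg (Ideal.Quotient.mk J) hPc
      rwa [Polynomial.hom_eval₂, map_zero] at h0
    exact ⟨(IsAlgClosed.lift (R := k) (S := C ⧸ J) (M := Ω)).toRingHom, AlgHom.comp_algebraMap _⟩
  have hlocC : IsLocalRing C := by
    refine IsLocalRing.of_unique_max_ideal ?_
    obtain ⟨J, hJ⟩ := Ideal.exists_maximal C
    refine ⟨J, hJ, fun J' hJ' => ?_⟩
    haveI := hJ; haveI := hJ'
    obtain ⟨σ, hσ⟩ := hlift J
    obtain ⟨τ, hτ⟩ := hlift J'
    letI := Ideal.Quotient.field J
    letI := Ideal.Quotient.field J'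
    have := congrArg RingHom.ker (hext Ω J' J τ σ (hτ.trans hσ.symm))
    rw [RingHom.ker_comp_of_injective _ τ.injective, RingHom.ker_comp_of_injective _ σ.injective,
      Ideal.mk_ker, Ideal.mk_ker] at this
    exact this
  refine ⟨⟨(redEquiv_domain' p), (show C ≃+* CAlg2.normRed O from e.symm).isLocalRing⟩, fun m' _ z => ?_⟩
  obtain ⟨r, rfl⟩ := Ideal.Quotient.mk_surjective z
  let J := m'.comap e.symm.toRingHom
  haveI : J.IsMaximal := Ideal.comap_isMaximal_of_surjective _ e.symm.surjective
  letI := Ideal.Quotient.field J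
  letI := Ideal.Quotient.field m'
  letI := (ρ J).toAlgebra
  haveI : IsPurelyInseparable k (C ⧸ J) := by
    rw [isPurelyInseparable_iff_finSepDegree_eq_one, Field.finSepDegree]
    haveI : Algebra.IsAlgebraic k (C ⧸ J) := by
      refine ⟨fun z => ?_⟩
      obtain ⟨c, rfl⟩ := Ideal.Quotient.mk_surjective z
      obtain ⟨P, hP, hPc⟩ := (show IsIntegral O c from Algebra.IsIntegral.isIntegral c)
      refine IsIntegral.isAlgebraic ⟨P.map (residue O), hP.map _, ?_⟩
      rw [Polynomial.eval₂_map]
      have h0 := congrArg (Ideal.Quotient.mk J) hPc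
      rwa [Polynomial.hom_eval₂, map_zero] at h0
    haveI : Subsingleton (Field.Emb k (C ⧸ J)) := ⟨fun σ τ => by
      have := hext _ J J σ.toRingHom τ.toRingHom (σ.comp_algebraMap.trans τ.comp_algebraMap.symm)
      exact AlgHom.coe_ringHom_injective ((RingHom.cancel_right Ideal.Quotient.mk_surjective).1 this)⟩
    exact Nat.card_of_subsingleton (IsAlgClosed.lift (M := AlgebraicClosure (C ⧸ J)))
  let eq : CAlg2.normRed O ⧸ m' ≃+* C ⧸ J := Ideal.quotientEquiv m' J e (by
    rw [Ideal.map_comap_of_equiv]; rfl)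
  obtain ⟨q, hq⟩ := ExpChar.exists k
  haveI : ExpChar (C ⧸ J) q := expChar_of_injective_ringHom (ρ J).injective q
  haveI : ExpChar (CAlg2.normRed O ⧸ m') q := expChar_of_injective_ringHom eq.symm.injective q
  rw [ringExpChar.eq _ q]
  obtain ⟨n, o, ho⟩ := IsPurelyInseparable.pow_mem k q (eq (Ideal.Quotient.mk m' r))
  obtain ⟨o, rfl⟩ := IsLocalRing.residue_surjective o
  refine ⟨n, o, eq.injective ?_⟩
  rw [map_pow]
  refine Eq.trans ?_ ho
  show Ideal.Quotient.mk J (e (algebraMap (CAlg2.red O) (CAlg2.normRed O) (Ideal.Quotient.mk _ o))) = _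
  rw [VarietyLib.normRedEquiv_mk]
  rfl
where
  redEquiv_domain' (p : Ideal A) [p.IsPrime] : IsDomain (CAlg2.red (Localization.AtPrime p)) :=
    (VarietyLib.redEquiv (Localization.AtPrime p)).symm.injective.isDomain (VarietyLib.redEquiv _).symm.toRingHom

end Groth.Agent.GUCons8

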