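import Groth.Agent.GUCons8.Ring
import Mathlib.AlgebraicGeometry.AffineScheme
import Mathlib.AlgebraicGeometry.Noetherian

/-!
# The geometrically unibranch locus of a locally Noetherian scheme
-/

set_option autoImplicit false
set_option backward.isDefEq.respectTransparency false

universe u

open CategoryTheory AlgebraicGeometry TopologicalSpace Topology

namespace Groth.Agent.GUCons8

theorem isLocallyConstructible_geomUnibranch (X : Scheme.{u}) [IsLocallyNoetherian X]
    (hfin : ∀ U : X.affineOpens, Module.Finite (CAlg2.red Γ(X, U.1)) (CAlg2.normRed Γ(X, U.1))) :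
    IsLocallyConstructible {x : X | CAlg2.IsGeomUnibranch (X.presheaf.stalk x)} := by
  refine IsLocallyConstructible.of_isOpenCover (U := fun U : X.affineOpens => U.1)
    (iSup_affineOpens_eq_top X) fun U => ?_
  haveI : IsNoetherianRing Γ(X, U.1) := IsLocallyNoetherian.component_noetherian U
  let e := U.2.isoSpec.hom.homeomorph
  have h := ((isConstructible_geomUnibranch Γ(X, U.1) (hfin U)).preimage_of_isOpenEmbedding
    e.isOpenEmbedding).isLocallyConstructible
  suffices hset : ((Subtype.val : U.1 → X) ⁻¹' {x : X | CAlg2.IsGeomUnibranch (X.presheaf.stalk x)}) =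
      e ⁻¹' {p : PrimeSpectrum Γ(X, U.1) | CAlg2.IsGeomUnibranch (Localization.AtPrime p.asIdeal)} from
    hset ▸ h
  ext x
  have := U.2.isLocalization_stalk x
  let ε := (IsLocalization.algEquiv (U.2.primeIdealOf x).asIdeal.primeCompl
    (Localization.AtPrime (U.2.primeIdealOf x).asIdeal) (X.presheaf.stalk x.1)).toRingEquiv
  exact ⟨fun hx => EGA43.Unibranch.isGeomUnibranch_of_ringEquiv ε.symm hx,
    fun hx => EGA43.Unibranch.isGeomUnibranch_of_ringEquiv ε hx⟩

end Groth.Agent.GUCons8
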